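import Mathlib
import Groth.Agent.H3.UnionEtaleWeakly
import Groth.Agent.H3.HensIntegralLocal
import Groth.Agent.H10.WeaklyEtaleNormal2
import Groth.Agent.H14.HensProp.IntHensMax
import Groth.Agent.H54.Dim

/-!
# Base change of a henselian normal local `k`-algebra to the separable closure (towards S13417)
-/

set_option autoImplicit false
set_option linter.style.haveILetI false
universe u

namespace Groth.Agent.H78.SepClBC

open IsLocalRing TensorProduct IntermediateField

/-- The separable closure of a field is weakly étale over it. -/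
theorem weaklyEtale_sepClosure (k : Type u) [Field k] :
    Algebra.WeaklyEtale k (SeparableClosure k) := by
  have hU : Groth.Agent.H3.UnionEtale.IsUnion k (SeparableClosure k) := by
    intro b
    have hb : IsSeparable k b := Algebra.IsSeparable.isSeparable k b
    haveI : FiniteDimensional k k⟮b⟯ := IntermediateField.adjoin.finiteDimensional hb.isIntegral
    haveI : Algebra.IsSeparable k k⟮b⟯ := inferInstance
    haveI : Algebra.FormallyEtale k k⟮b⟯ := Algebra.FormallyEtale.of_isSeparable k _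
    haveI : Algebra.FinitePresentation k k⟮b⟯ :=
      Algebra.FinitePresentation.of_finiteType.mp inferInstance
    have hE : Algebra.Etale k k⟮b⟯ := ⟨inferInstance, inferInstance⟩
    refine ⟨k⟮b⟯, inferInstance, inferInstance, hE, (k⟮b⟯).val, ?_⟩
    intro x hx
    rw [Set.mem_singleton_iff] at hx
    exact ⟨⟨b, IntermediateField.mem_adjoin_simple_self k b⟩, hx.symm⟩
  exact hU.weaklyEtale

section

variable (k : Type u) [Field k] (R₀ : Type u) [CommRing R₀] [IsDomain R₀] [HenselianLocalRing R₀]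
  [Algebra k R₀] [IsIntegrallyClosed R₀] (L : Type u) [Field L] [Algebra k L]
  [Algebra.IsIntegral k L] [IsDomain (R₀ ⊗[k] L)]

omit [IsDomain R₀] [IsIntegrallyClosed R₀] in
/-- a domain integral over a henselian local ring is local -/
theorem isLocalRing_tensor : IsLocalRing (R₀ ⊗[k] L) := by
  obtain ⟨M, hM⟩ := Ideal.exists_maximal (R₀ ⊗[k] L)
  refine IsLocalRing.of_unique_max_ideal ⟨M, hM, fun M' hM' => ?_⟩
  haveI := hM
  haveI := hM'
  haveI : (⊥ : Ideal (R₀ ⊗[k] L)).IsPrime := Ideal.isPrime_bot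
  exact Groth.Agent.H14.HensProp.IntHensMax.eq_of_le_of_le R₀ _ ⊥ M' M bot_le bot_le

omit [IsDomain R₀] [IsIntegrallyClosed R₀] in
theorem henselianLocalRing_tensor : HenselianLocalRing (R₀ ⊗[k] L) := by
  haveI := isLocalRing_tensor k R₀ L
  exact Groth.Agent.H3.HensIntegralLocal.henselianLocalRing_of_isIntegral R₀ (R₀ ⊗[k] L)

omit [IsDomain R₀] [IsIntegrallyClosed R₀] [IsDomain (R₀ ⊗[k] L)] in
theorem ringKrullDim_tensor : ringKrullDim (R₀ ⊗[k] L) = ringKrullDim R₀ := by
  have hinj : Function.Injective (algebraMap R₀ (R₀ ⊗[k] L)) :=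
    Algebra.TensorProduct.includeLeft_injective (S := R₀) (algebraMap k L).injective
  exact (Groth.Agent.H54.ringKrullDim_eq_of_isIntegral_of_injective hinj).symm

omit [IsDomain R₀] [IsIntegrallyClosed R₀] [IsDomain (R₀ ⊗[k] L)] in
theorem residue_surjective [IsLocalRing (R₀ ⊗[k] L)]
    (hres : Function.Surjective (fun a : k => IsLocalRing.residue R₀ (algebraMap k R₀ a))) :
    Function.Surjective (fun a : L =>
      IsLocalRing.residue (R₀ ⊗[k] L)
        ((Algebra.TensorProduct.includeRight : L →ₐ[k] R₀ ⊗[k] L) a)) := by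
  have hmax : ∀ m ∈ maximalIdeal R₀, (m ⊗ₜ[k] (1 : L)) ∈ maximalIdeal (R₀ ⊗[k] L) := by
    intro m hm
    haveI := Groth.Agent.H14.HensProp.IntHensMax.liesOver_of_isMaximal R₀ (R₀ ⊗[k] L)
      (maximalIdeal (R₀ ⊗[k] L))
    have := (maximalIdeal (R₀ ⊗[k] L)).over_def (maximalIdeal R₀)
    rw [this] at hm
    exact hm
  intro y
  obtain ⟨t, rfl⟩ := IsLocalRing.residue_surjective y
  induction t using TensorProduct.induction_on with
  | zero => exact ⟨0, by simp⟩
  | tmul r s =>
    obtain ⟨c, hc⟩ := hres (IsLocalRing.residue R₀ r)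
    have hm : r - algebraMap k R₀ c ∈ maximalIdeal R₀ := by
      rw [← Ideal.Quotient.eq_zero_iff_mem]
      change IsLocalRing.residue R₀ (r - algebraMap k R₀ c) = 0
      rw [map_sub]
      simp only at hc
      rw [hc, sub_self]
    refine ⟨c • s, ?_⟩
    simp only [Algebra.TensorProduct.includeRight_apply]
    have h1 : r ⊗ₜ[k] s = (1 : R₀) ⊗ₜ[k] (c • s)
        + ((r - algebraMap k R₀ c) ⊗ₜ[k] (1 : L)) * ((1 : R₀) ⊗ₜ[k] s) := by
      rw [Algebra.TensorProduct.tmul_mul_tmul, mul_one, one_mul, TensorProduct.sub_tmul,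
        TensorProduct.tmul_smul, Algebra.algebraMap_eq_smul_one, TensorProduct.smul_tmul']
      abel
    rw [h1, map_add, map_mul]
    have h2 : IsLocalRing.residue (R₀ ⊗[k] L) ((r - algebraMap k R₀ c) ⊗ₜ[k] (1 : L)) = 0 := by
      rw [IsLocalRing.residue_eq_zero_iff]
      exact hmax _ hm
    rw [h2, zero_mul, add_zero]
  | add x y hx hy =>
    obtain ⟨a, ha⟩ := hx
    obtain ⟨b, hb⟩ := hy
    refine ⟨a + b, ?_⟩
    simp only at ha hb ⊢
    rw [map_add, map_add, ha, hb, map_add]

omit [HenselianLocalRing R₀] [Algebra.IsIntegral k L] [IsDomain (R₀ ⊗[k] L)] in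
theorem isIntegrallyClosed_tensor [IsLocalRing (R₀ ⊗[k] L)] [Algebra.WeaklyEtale k L] :
    IsIntegrallyClosed (R₀ ⊗[k] L) :=
  (Groth.Agent.H10.WEN.isDomain_isIntegrallyClosed_of_weaklyEtale_local R₀ (R₀ ⊗[k] L)).2

end

end Groth.Agent.H78.SepClBC
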